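import Mathlib
import Cfsg.Agent.Helper14.GLk.Defs
import Cfsg.Agent.Helper14.SLk.Defs

/-!
# S2480 (class number of PSL_n(q)): shared definitions for the piece project

`scal n c` : the scalar matrix `c • 1` as an element of `GL_n(F)`.
`U q N`    : the bound `P(N) + ∑_{d ∣ gcd(N, q-1), d ≥ 2} (d^2-1) P(N/d)` for `(q-1) k(SL_N(q))`.
`rho p e r k` : `dim_F` of the image of multiplication by `r^k` on `F[X]/(p^e)` (`p, r` monic
irreducible).
-/

set_option autoImplicit false

namespace Cfsg.Agent.S2480P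

open Polynomial Cfsg.Agent.S2478P

/-- the scalar matrix `c • 1` in `GL_n(F)`. -/
noncomputable def scal {F : Type*} [Field F] (n : ℕ) (c : Fˣ) : Matrix.GeneralLinearGroup (Fin n) F :=
  Units.map (Matrix.scalar (Fin n) : F →+* Matrix (Fin n) (Fin n) F).toMonoidHom c

/-- the bound for `(q-1) k(SL_N(q))` proved in S2479. -/
def U (q N : ℕ) : ℕ :=
  A q N N + ∑ d ∈ (Nat.gcd N (q - 1)).divisors.filter (fun d => 2 ≤ d),
    (d ^ 2 - 1) * A q (N / d) (N / d)

open Classical in
/-- the `F`-dimension of `r^k • (F[X]/(p^e))` for monic irreducible `p, r`. -/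
noncomputable def rho {F : Type*} [Field F] (p : F[X]) (e : ℕ) (r : F[X]) (k : ℕ) : ℕ :=
  if p = r then (e - k) * p.natDegree else e * p.natDegree

end Cfsg.Agent.S2480P
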