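import Mathlib
import Cfsg.Agent.Helper14.GLk.Defs
import Cfsg.Agent.Helper14.GLk.CONJ
import Cfsg.Agent.Helper14.SLk.Defs
import Cfsg.Agent.Helper14.PSLk.Defs
import Cfsg.Agent.Helper25.S2480UNIQB
import Cfsg.Agent.Helper15.S2480UNIQC
import Cfsg.Agent.Helper5.S2480UNIQA

set_option autoImplicit false

namespace Cfsg.Agent.S2480P

open Polynomial DirectSum Cfsg.Agent.S2478P Cfsg.Agent.S2479P

universe u

/-- uniqueness of elementary divisors (assembled from UNIQA, UNIQB, UNIQC). -/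
theorem cnt_eq_of_equiv {F : Type u} [Field F] {ι ι' : Type u} [Fintype ι] [Fintype ι']
    (p : ι → F[X]) (e : ι → ℕ) (p' : ι' → F[X]) (e' : ι' → ℕ)
    (hp : ∀ i, (p i).Monic ∧ Irreducible (p i) ∧ 1 ≤ e i)
    (hp' : ∀ j, (p' j).Monic ∧ Irreducible (p' j) ∧ 1 ≤ e' j)
    (Ψ : Nonempty ((⨁ i, F[X] ⧸ Submodule.span F[X] {p i ^ e i}) ≃ₗ[F[X]]
      (⨁ j, F[X] ⧸ Submodule.span F[X] {p' j ^ e' j}))) :
    ∀ t : F[X] × ℕ, Nat.card {i // (p i, e i) = t} = Nat.card {j // (p' j, e' j) = t} := by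
  refine cnt_eq_of_rho_eq p e p' e' hp hp' (fun r hr hri k => ?_)
  have h := sum_finrank_range_eq p e p' e' (fun i => (hp i).1) (fun j => (hp' j).1) Ψ (r ^ k)
  rw [Finset.sum_congr rfl (fun i _ => finrank_range_block (p i) r (hp i).1 (hp i).2.1 hr hri
      (e i) k),
    Finset.sum_congr rfl (fun j _ => finrank_range_block (p' j) r (hp' j).1 (hp' j).2.1 hr hri
      (e' j) k)] at h
  exact h

/-- equal multiplicities give equal tuples. -/
theorem prod_eq_of_cnt_eq {F : Type u} [Field F] {ι ι' : Type u} [Fintype ι] [Fintype ι']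
    (p : ι → F[X]) (e : ι → ℕ) (p' : ι' → F[X]) (e' : ι' → ℕ)
    (h : ∀ t : F[X] × ℕ, Nat.card {i // (p i, e i) = t} = Nat.card {j // (p' j, e' j) = t})
    (m : ℕ) : ∏ i with e i = m, p i = ∏ j with e' j = m, p' j := by
  classical
  obtain ⟨σ, hσ⟩ := CONJ.exists_equiv_of_card_fiber (fun i => (p i, e i)) (fun j => (p' j, e' j)) h
  refine Finset.prod_equiv σ (fun i => ?_) (fun i _ => ?_)
  · have := hσ i
    simp only [Prod.mk.injEq] at this
    simp only [Finset.mem_filter, Finset.mem_univ, true_and]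
    rw [this.2]
  · have := hσ i
    simp only [Prod.mk.injEq] at this
    exact this.1.symm

end Cfsg.Agent.S2480P
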