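import Mathlib
import Cfsg.Agent.Helper14.GLk.Defs
import Cfsg.Agent.Helper14.GLk.MOD
import Cfsg.Agent.Helper14.GLk.CONJ
import Cfsg.Agent.Helper15.S2478FACT
import Cfsg.Agent.Helper15.S2478HPROP
import Cfsg.Agent.Helper14.SLk.Defs
import Cfsg.Agent.Helper14.SLk.CENT
import Cfsg.Agent.Helper14.PSLk.Defs
import Cfsg.Agent.Helper22.S2480SCALE
import Cfsg.Agent.Helper15.S2480EQUIVCONJ
import Cfsg.Agent.Helper14.PSLk.UNIQ

set_option autoImplicit false

namespace Cfsg.Agent.S2480P

open Polynomial DirectSum Cfsg.Agent.S2478P Cfsg.Agent.S2479P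

universe u

/-- `scaleRoots` commutes with finite products of monic polynomials over a field. -/
theorem scaleRoots_prod {F : Type*} [Field F] {ι : Type*} (s : Finset ι) (p : ι → F[X]) (c : F) :
    scaleRoots (∏ i ∈ s, p i) c = ∏ i ∈ s, scaleRoots (p i) c := by
  classical
  induction s using Finset.induction_on with
  | empty => simp [one_scaleRoots]
  | insert a s ha ih =>
    rw [Finset.prod_insert ha, Finset.prod_insert ha, mul_scaleRoots_of_noZeroDivisors, ih]

/-- if `c • s` is conjugate to `s`, the tuple of any decomposition of `s` is invariant under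
scaling the roots by `c`. -/
theorem tuple_scale_invariant {F : Type u} [Field F] (n : ℕ)
    (s : Matrix.GeneralLinearGroup (Fin n) F) (c : Fˣ) (hconj : IsConj (scal n c * s) s)
    {ι : Type u} [Fintype ι] (p : ι → F[X]) (e : ι → ℕ)
    (hp : ∀ i, (p i).Monic ∧ Irreducible (p i) ∧ 1 ≤ e i)
    (Φ : Nonempty (Module.AEval' (Matrix.toLin' (s : Matrix (Fin n) (Fin n) F)) ≃ₗ[F[X]]
        ⨁ i, F[X] ⧸ Submodule.span F[X] {p i ^ e i})) (m : ℕ) :
    scaleRoots (∏ i with e i = m, p i) (c : F) = ∏ i with e i = m, p i := by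
  classical
  obtain ⟨hp2, ⟨Φ2⟩⟩ := exists_decomp_scal n s c p e (fun i => ⟨(hp i).1, (hp i).2.1⟩) Φ
  obtain ⟨Θ⟩ := equiv_of_isConj n _ _ hconj
  obtain ⟨Φ⟩ := Φ
  have hcnt := cnt_eq_of_equiv p e (fun i => scaleRoots (p i) (c : F)) e hp
    (fun i => ⟨(hp2 i).1, (hp2 i).2, (hp i).2.2⟩) ⟨(Φ.symm.trans Θ.symm).trans Φ2⟩
  rw [scaleRoots_prod]
  exact (prod_eq_of_cnt_eq p e (fun i => scaleRoots (p i) (c : F)) e hcnt m).symm

/-- the type function on `GL_n(F)` with all the properties used in S2479/S2480. -/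
theorem exists_type_function {F : Type u} [Field F] [Fintype F] (n : ℕ) :
    ∃ τ : Matrix.GeneralLinearGroup (Fin n) F → (ℕ → F[X]),
      (∀ g, τ g ∈ T F n n) ∧ (∀ x y, τ x = τ y → IsConj x y) ∧
      (∀ g : Matrix.GeneralLinearGroup (Fin n) F,
        (g : Matrix (Fin n) (Fin n) F).det = dett n (τ g)) ∧
      (∀ g, ∀ a ∈ D (τ g), ∃ z, Commute z g ∧ Matrix.GeneralLinearGroup.det z = a) ∧
      (∀ g (c : Fˣ), IsConj (scal n c * g) g → ∀ m, scaleRoots (τ g m) (c : F) = τ g m) := by
  classical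
  have hdec := fun g : Matrix.GeneralLinearGroup (Fin n) F => exists_decomp n g
  choose ι fι p e hp hsum hΦ using hdec
  let τ : Matrix.GeneralLinearGroup (Fin n) F → (ℕ → F[X]) := fun g m =>
    @Finset.prod _ _ _ (@Finset.filter _ (fun i => e g i = m) _ (@Finset.univ _ (fι g))) (p g)
  refine ⟨τ, ?_, ?_, ?_, ?_, ?_⟩
  · exact fun g => @prod_mem_T F _ (ι g) (fι g) (p g) (e g) n (hp g) (hsum g)
  · intro x y hxy
    have h1 : ∀ m : ℕ,
        @Finset.prod _ _ _ (@Finset.filter _ (fun i => e x i = m) _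
          (@Finset.univ _ (fι x))) (p x) =
        @Finset.prod _ _ _ (@Finset.filter _ (fun i => e y i = m) _
          (@Finset.univ _ (fι y))) (p y) := fun m => congrFun hxy m
    have h2 := @cnt_eq_of_prod_eq F _ (ι x) (ι y) (fι x) (fι y) (p x) (e x) (p y) (e y)
      (fun i => ⟨(hp x i).1, (hp x i).2.1⟩) (fun i => ⟨(hp y i).1, (hp y i).2.1⟩) h1
    exact @isConj_of_decomp F _ n x y (ι x) (ι y) (fι x) (fι y) (p x) (e x) (p y) (e y)
      (hΦ x) (hΦ y) h2
  · exact fun g =>
      @det_eq_dett F _ n g (ι g) (fι g) (p g) (e g) (fun i => ⟨(hp g i).1, (hp g i).2.2.2⟩)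
        (hsum g) (hΦ g)
  · intro g a ha
    have hle : D (τ g) ≤ (Subgroup.centralizer
        ({g} : Set (Matrix.GeneralLinearGroup (Fin n) F))).map
        (Matrix.GeneralLinearGroup.det : Matrix.GeneralLinearGroup (Fin n) F →* Fˣ) := by
      unfold D
      refine iSup₂_le (fun m hm => ?_)
      rintro _ ⟨c, rfl⟩
      have hex : ∃ i0, e g i0 = m := by
        by_contra hno
        push Not at hno
        have hempty : @Finset.filter _ (fun i => e g i = m) _ (@Finset.univ _ (fι g)) = ∅ := by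
          apply Finset.eq_empty_of_forall_notMem
          intro i hi
          exact hno i (Finset.mem_filter.1 hi).2
        have : τ g m = 1 := by
          show @Finset.prod _ _ _ (@Finset.filter _ (fun i => e g i = m) _
            (@Finset.univ _ (fι g))) (p g) = 1
          rw [hempty, Finset.prod_empty]
        have hm' : 1 ≤ (τ g m).natDegree := hm
        rw [this, natDegree_one] at hm'
        exact absurd hm' (by norm_num)
      obtain ⟨i0, hi0⟩ := hex
      obtain ⟨z, hz, hzdet⟩ := @exists_centralizing F _ _ n g (ι g) (fι g) (p g) (e g)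
        (fun i => ⟨(hp g i).1, (hp g i).2.1, (hp g i).2.2.2⟩) (hΦ g) i0 c
      refine ⟨z, ?_, ?_⟩
      · rw [SetLike.mem_coe, Subgroup.mem_centralizer_iff]
        intro h hh
        rw [Set.mem_singleton_iff] at hh
        subst hh
        exact hz.eq.symm
      · rw [hi0] at hzdet
        exact hzdet
    obtain ⟨z, hz, hza⟩ := hle ha
    refine ⟨z, ?_, hza⟩
    rw [SetLike.mem_coe, Subgroup.mem_centralizer_iff] at hz
    exact (hz g rfl).symm
  · intro g c hconj m
    exact @tuple_scale_invariant F _ n g c hconj (ι g) (fι g) (p g) (e g)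
      (fun i => ⟨(hp g i).1, (hp g i).2.1, (hp g i).2.2.2⟩) (hΦ g) m

end Cfsg.Agent.S2480P
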