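import Mathlib
import Cfsg.Agent.Helper14.GLk.Defs
import Cfsg.Agent.Helper14.GLk.COUNTT
import Cfsg.Agent.Helper14.SLk.Defs
import Cfsg.Agent.Helper14.SLk.SUMBOUND
import Cfsg.Agent.Helper28.S2479ACTION
import Cfsg.Agent.Helper14.PSLk.Defs
import Cfsg.Agent.Helper20.S2480INVSUM
import Cfsg.Agent.Helper28.S2480SPLIT2
import Cfsg.Agent.Helper14.PSLk.TYPE

set_option autoImplicit false

namespace Cfsg.Agent.S2480P

open Polynomial DirectSum Cfsg.Agent.S2478P Cfsg.Agent.S2479P

universe u

open Classical in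
/-- the number of classes of `ker det` fixed by a non-trivial scalar `c` of order `o`:
`(q-1) #Fix ≤ U(n/o)`. -/
theorem fix_bound_gl {F : Type u} [Field F] [Fintype F] (n : ℕ) (hn : 1 ≤ n) (c : Fˣ) (hc1 : c ≠ 1)
    (hcn : c ^ n = 1) :
    (Fintype.card F - 1) * Nat.card
      {C : ConjClasses
          (Matrix.GeneralLinearGroup.det : Matrix.GeneralLinearGroup (Fin n) F →* Fˣ).ker //
        ∃ s : (Matrix.GeneralLinearGroup.det : Matrix.GeneralLinearGroup (Fin n) F →* Fˣ).ker,
          ConjClasses.mk s = C ∧ IsConj (scal n c * (s : Matrix.GeneralLinearGroup (Fin n) F))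
            (s : Matrix.GeneralLinearGroup (Fin n) F)} ≤
      U (Fintype.card F) (n / orderOf c) := by
  obtain ⟨τ, hτT, h1, hdet, h2, hinv⟩ := exists_type_function (F := F) n
  set φ : Matrix.GeneralLinearGroup (Fin n) F →* Fˣ := Matrix.GeneralLinearGroup.det with hφ
  have hT : (T F n n).Finite := (card_T F n n).1
  have hT' : (T F (n / orderOf c) (n / orderOf c)).Finite := (card_T F _ _).1
  let J : Finset (ℕ → F[X]) := hT.toFinset.filter
    (fun t => dett n t = 1 ∧ ∀ m, scaleRoots (t m) (c : F) = t m)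
  have hsplit := card_conjClasses_ker_subset_le φ τ D J (fun x y _ _ h => h1 x y h)
    (fun g _ a ha => h2 g a ha)
  have hsub : Nat.card {C : ConjClasses φ.ker // ∃ s : φ.ker, ConjClasses.mk s = C ∧
        IsConj (scal n c * (s : Matrix.GeneralLinearGroup (Fin n) F))
          (s : Matrix.GeneralLinearGroup (Fin n) F)} ≤
      Nat.card {C : ConjClasses φ.ker // ∃ s : φ.ker, ConjClasses.mk s = C ∧
        τ (s : Matrix.GeneralLinearGroup (Fin n) F) ∈ J} := by
    refine Nat.card_le_card_of_injective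
      (fun C => ⟨C.1, by
        obtain ⟨s, hs, hconj⟩ := C.2
        refine ⟨s, hs, ?_⟩
        rw [Finset.mem_filter, Set.Finite.mem_toFinset]
        refine ⟨hτT _, ?_, hinv _ c hconj⟩
        rw [← hdet]
        exact congrArg Units.val s.2⟩) ?_
    intro C C' h
    have h' := congrArg (fun X : {C : ConjClasses φ.ker // ∃ s : φ.ker, ConjClasses.mk s = C ∧
        τ (s : Matrix.GeneralLinearGroup (Fin n) F) ∈ J} => (X : ConjClasses φ.ker)) h
    exact Subtype.ext h'
  have ho : orderOf c ∣ n := orderOf_dvd_of_pow_eq_one hcn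
  have hno : 1 ≤ n / orderOf c := by
    have hpos : 0 < orderOf c := orderOf_pos c
    exact Nat.div_pos (Nat.le_of_dvd (by omega) ho) hpos
  have hinvsum := sum_idx_invariant_le F n c hc1 hcn hT hT'
  have hact := weighted_count F (n / orderOf c) hT'
  have hsb := sum_idx_sq_le F (n / orderOf c) hno hT'
  calc (Fintype.card F - 1) * Nat.card _
      ≤ (Fintype.card F - 1) * ∑ t ∈ J, idx t :=
        Nat.mul_le_mul_left _ (hsub.trans (by simpa [idx] using hsplit))
    _ ≤ (Fintype.card F - 1) *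
          ∑ k ∈ hT'.toFinset.filter (fun k => dett (n / orderOf c) k = 1), idx k :=
        Nat.mul_le_mul_left _ hinvsum
    _ ≤ ∑ k ∈ hT'.toFinset, idx k ^ 2 := hact
    _ ≤ U (Fintype.card F) (n / orderOf c) := hsb

end Cfsg.Agent.S2480P
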